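import Mathlib

/-!
# Affine groups `V ⋊ K` and orders of their elements (helper39, for S3489)
-/

namespace Cfsg.Agent.Helper39.SpecA10

set_option linter.unusedSectionVars false

/-- The semidirect product `V ⋊ K` for an additive commutative group `V` with a `K`-action. -/
structure Aff (K V : Type*) where
  v : V
  g : K

namespace Aff

variable {K V : Type*} [Group K] [AddCommGroup V] [DistribMulAction K V]

theorem ext' {x y : Aff K V} (hv : x.v = y.v) (hg : x.g = y.g) : x = y := by
  cases x; cases y; simp_all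

instance : Mul (Aff K V) := ⟨fun x y => ⟨x.v + x.g • y.v, x.g * y.g⟩⟩
instance : One (Aff K V) := ⟨⟨0, 1⟩⟩
instance : Inv (Aff K V) := ⟨fun x => ⟨-(x.g⁻¹ • x.v), x.g⁻¹⟩⟩

@[simp] theorem mul_v (x y : Aff K V) : (x * y).v = x.v + x.g • y.v := rfl
@[simp] theorem mul_g (x y : Aff K V) : (x * y).g = x.g * y.g := rfl
@[simp] theorem one_v : (1 : Aff K V).v = 0 := rfl
@[simp] theorem one_g : (1 : Aff K V).g = 1 := rfl
@[simp] theorem inv_v (x : Aff K V) : (x⁻¹).v = -(x.g⁻¹ • x.v) := rfl
@[simp] theorem inv_g (x : Aff K V) : (x⁻¹).g = x.g⁻¹ := rfl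

instance : Group (Aff K V) where
  mul_assoc x y z := by
    apply ext'
    · simp [smul_add, mul_smul, add_assoc]
    · simp [mul_assoc]
  one_mul x := by apply ext' <;> simp
  mul_one x := by apply ext' <;> simp
  inv_mul_cancel x := by apply ext' <;> simp

theorem pow_g (x : Aff K V) (n : ℕ) : (x ^ n).g = x.g ^ n := by
  induction n with
  | zero => simp
  | succ n ih => simp [pow_succ, ih]

theorem pow_v (x : Aff K V) (n : ℕ) :
    (x ^ n).v = ∑ i ∈ Finset.range n, (x.g ^ i) • x.v := by
  induction n with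
  | zero => simp
  | succ n ih => simp [pow_succ, ih, pow_g, Finset.sum_range_succ]

/-- projection to `K` -/
def proj : Aff K V →* K where
  toFun x := x.g
  map_one' := rfl
  map_mul' _ _ := rfl

/-- the norm element -/
noncomputable def nrm (g : K) (v : V) : V := ∑ i ∈ Finset.range (orderOf g), (g ^ i) • v

theorem pow_orderOf (x : Aff K V) : x ^ orderOf x.g = ⟨nrm x.g x.v, 1⟩ := by
  apply ext'
  · simp [pow_v, nrm]
  · simp [pow_g, pow_orderOf_eq_one]

theorem mk_one_pow (w : V) (n : ℕ) : (⟨w, 1⟩ : Aff K V) ^ n = ⟨n • w, 1⟩ := by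
  apply ext'
  · simp [pow_v]
  · simp [pow_g]

theorem orderOf_mk_one (w : V) : orderOf (⟨w, 1⟩ : Aff K V) = addOrderOf w := by
  rcases Nat.eq_zero_or_pos (addOrderOf w) with h0 | hpos
  · rw [h0, orderOf_eq_zero_iff']
    intro n hn h
    rw [mk_one_pow] at h
    have h1 : n • w = 0 := congrArg Aff.v h
    have := addOrderOf_dvd_of_nsmul_eq_zero h1
    rw [h0] at this
    omega
  · rw [orderOf_eq_iff hpos]
    constructor
    · rw [mk_one_pow, addOrderOf_nsmul_eq_zero]; rfl
    · intro m hm hm0 h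
      rw [mk_one_pow] at h
      have h1 : m • w = 0 := congrArg Aff.v h
      have := Nat.le_of_dvd hm0 (addOrderOf_dvd_of_nsmul_eq_zero h1)
      omega

/-- The order of `(v, g)` is `o(g)` times the additive order of the norm of `v`. -/
theorem orderOf_eq (x : Aff K V) (hg : 0 < orderOf x.g) :
    orderOf x = orderOf x.g * addOrderOf (nrm x.g x.v) := by
  have hdvd : orderOf x.g ∣ orderOf x := orderOf_map_dvd (proj : Aff K V →* K) x
  have h1 : orderOf (x ^ orderOf x.g) = orderOf x / orderOf x.g :=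
    orderOf_pow_of_dvd hg.ne' hdvd
  rw [pow_orderOf, orderOf_mk_one] at h1
  rw [h1, Nat.mul_div_cancel' hdvd]

end Aff

end Cfsg.Agent.Helper39.SpecA10
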