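import Mathlib

/-!
# The spectrum of `A₁₀` (helper39, for S3489)
-/

namespace Cfsg.Agent.Helper39.SpecA10

/-- all non-decreasing lists with entries `≥ lo` and sum `≤ s` (with fuel `f ≥ s`) -/
def enumP : ℕ → ℕ → ℕ → List (List ℕ)
  | 0, _, _ => [[]]
  | f + 1, lo, s =>
    [] :: ((List.range (s + 1)).filter (fun x => decide (lo ≤ x))).flatMap
      (fun x => (enumP f x (s - x)).map (fun l => x :: l))

theorem mem_enumP : ∀ (f lo s : ℕ) (l : List ℕ), s ≤ f → 0 < lo → l.Pairwise (· ≤ ·) →
    (∀ x ∈ l, lo ≤ x) → l.sum ≤ s → l ∈ enumP f lo s := by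
  intro f
  induction f with
  | zero =>
    intro lo s l hs hlo _ hl hsum
    have : l = [] := by
      cases l with
      | nil => rfl
      | cons x l' =>
        have := hl x (by simp)
        simp only [List.sum_cons] at hsum
        omega
    subst this
    simp [enumP]
  | succ f ih =>
    intro lo s l hs hlo hsorted hl hsum
    cases l with
    | nil => simp [enumP]
    | cons x l' =>
      have hx := hl x (by simp)
      simp only [List.sum_cons] at hsum
      rw [List.pairwise_cons] at hsorted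
      obtain ⟨hx', hs'⟩ := hsorted
      unfold enumP
      apply List.mem_cons_of_mem
      rw [List.mem_flatMap]
      refine ⟨x, ?_, ?_⟩
      · rw [List.mem_filter]
        refine ⟨?_, by simpa using hx⟩
        rw [List.mem_range]; omega
      · rw [List.mem_map]
        refine ⟨l', ?_, rfl⟩
        apply ih x (s - x) l' (by omega) (by omega) hs' hx' (by omega)

/-- the spectrum of `A₁₀` -/
def TA : Finset ℕ := {1, 2, 3, 4, 5, 6, 7, 8, 9, 10, 12, 15, 21}

theorem enum_check : ∀ l ∈ enumP 10 2 10, (l.sum + l.length) % 2 = 0 →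
    l.foldr Nat.lcm 1 ∈ TA := by
  decide

theorem orderOf_mem_TA (σ : Equiv.Perm (Fin 10)) (hσ : Equiv.Perm.sign σ = 1) :
    orderOf σ ∈ TA := by
  classical
  set m := σ.cycleType with hm
  set l := m.sort (· ≤ ·) with hl
  have hlm : (l : Multiset ℕ) = m := Multiset.sort_eq _ _
  have hsorted : l.Pairwise (· ≤ ·) := Multiset.pairwise_sort _ _
  have hge : ∀ x ∈ l, 2 ≤ x := by
    intro x hx
    have : x ∈ m := by rw [← hlm]; exact hx
    exact Equiv.Perm.two_le_of_mem_cycleType this
  have hsum : l.sum ≤ 10 := by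
    have h1 : l.sum = m.sum := by rw [← hlm]; rfl
    rw [h1, hm, Equiv.Perm.sum_cycleType]
    exact (Finset.card_le_univ _).trans (by simp)
  have hmem := mem_enumP 10 2 10 l le_rfl (by norm_num) hsorted hge hsum
  have hpar : (l.sum + l.length) % 2 = 0 := by
    have h1 : l.sum = m.sum := by rw [← hlm]; rfl
    have h2 : l.length = Multiset.card m := by rw [← hlm]; rfl
    rw [h1, h2]
    have hs := Equiv.Perm.sign_of_cycleType σ
    rw [hσ, ← hm] at hs
    have : Even (m.sum + Multiset.card m) := by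
      by_contra hodd
      rw [Nat.not_even_iff_odd] at hodd
      rw [hodd.neg_one_pow] at hs
      revert hs; decide
    exact Nat.even_iff.mp this
  have hlcm : l.foldr Nat.lcm 1 = orderOf σ := by
    rw [← Equiv.Perm.lcm_cycleType, ← hm, ← hlm]
    rfl
  rw [← hlcm]
  exact enum_check l hmem hpar

/-- a representative of order 1 -/
def rep1 : Equiv.Perm (Fin 10) := 1

theorem rep1_sign : Equiv.Perm.sign rep1 = 1 := by
  simp [rep1]

theorem rep1_order : orderOf rep1 = 1 := by
  simp [rep1]

/-- a representative of order 2 -/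
def rep2 : Equiv.Perm (Fin 10) := Equiv.swap 0 1 * Equiv.swap 2 3

theorem rep2_sign : Equiv.Perm.sign rep2 = 1 := by
  simp [rep2, Equiv.Perm.sign_mul, Equiv.Perm.sign_swap']

theorem rep2_order : orderOf rep2 = 2 := by
  rw [orderOf_eq_iff (by norm_num)]
  decide +kernel

/-- a representative of order 3 -/
def rep3 : Equiv.Perm (Fin 10) := Equiv.swap 0 1 * Equiv.swap 1 2

theorem rep3_sign : Equiv.Perm.sign rep3 = 1 := by
  simp [rep3, Equiv.Perm.sign_mul, Equiv.Perm.sign_swap']

theorem rep3_order : orderOf rep3 = 3 := by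
  rw [orderOf_eq_iff (by norm_num)]
  decide +kernel

/-- a representative of order 4 -/
def rep4 : Equiv.Perm (Fin 10) := Equiv.swap 0 1 * Equiv.swap 1 2 * Equiv.swap 2 3 * Equiv.swap 4 5

theorem rep4_sign : Equiv.Perm.sign rep4 = 1 := by
  simp [rep4, Equiv.Perm.sign_mul, Equiv.Perm.sign_swap']

theorem rep4_order : orderOf rep4 = 4 := by
  rw [orderOf_eq_iff (by norm_num)]
  decide +kernel

/-- a representative of order 5 -/
def rep5 : Equiv.Perm (Fin 10) := Equiv.swap 0 1 * Equiv.swap 1 2 * Equiv.swap 2 3 * Equiv.swap 3 4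

theorem rep5_sign : Equiv.Perm.sign rep5 = 1 := by
  simp [rep5, Equiv.Perm.sign_mul, Equiv.Perm.sign_swap']

theorem rep5_order : orderOf rep5 = 5 := by
  rw [orderOf_eq_iff (by norm_num)]
  decide +kernel

/-- a representative of order 6 -/
def rep6 : Equiv.Perm (Fin 10) := Equiv.swap 0 1 * Equiv.swap 1 2 * Equiv.swap 3 4 * Equiv.swap 5 6

theorem rep6_sign : Equiv.Perm.sign rep6 = 1 := by
  simp [rep6, Equiv.Perm.sign_mul, Equiv.Perm.sign_swap']

theorem rep6_order : orderOf rep6 = 6 := by
  rw [orderOf_eq_iff (by norm_num)]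
  decide +kernel

/-- a representative of order 7 -/
def rep7 : Equiv.Perm (Fin 10) := Equiv.swap 0 1 * Equiv.swap 1 2 * Equiv.swap 2 3 * Equiv.swap 3 4 * Equiv.swap 4 5 * Equiv.swap 5 6

theorem rep7_sign : Equiv.Perm.sign rep7 = 1 := by
  simp [rep7, Equiv.Perm.sign_mul, Equiv.Perm.sign_swap']

theorem rep7_order : orderOf rep7 = 7 := by
  rw [orderOf_eq_iff (by norm_num)]
  decide +kernel

/-- a representative of order 8 -/
def rep8 : Equiv.Perm (Fin 10) := Equiv.swap 0 1 * Equiv.swap 1 2 * Equiv.swap 2 3 * Equiv.swap 3 4 * Equiv.swap 4 5 * Equiv.swap 5 6 * Equiv.swap 6 7 * Equiv.swap 8 9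

theorem rep8_sign : Equiv.Perm.sign rep8 = 1 := by
  simp [rep8, Equiv.Perm.sign_mul, Equiv.Perm.sign_swap']

theorem rep8_order : orderOf rep8 = 8 := by
  rw [orderOf_eq_iff (by norm_num)]
  decide +kernel

/-- a representative of order 9 -/
def rep9 : Equiv.Perm (Fin 10) := Equiv.swap 0 1 * Equiv.swap 1 2 * Equiv.swap 2 3 * Equiv.swap 3 4 * Equiv.swap 4 5 * Equiv.swap 5 6 * Equiv.swap 6 7 * Equiv.swap 7 8

theorem rep9_sign : Equiv.Perm.sign rep9 = 1 := by
  simp [rep9, Equiv.Perm.sign_mul, Equiv.Perm.sign_swap']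

theorem rep9_order : orderOf rep9 = 9 := by
  rw [orderOf_eq_iff (by norm_num)]
  decide +kernel

/-- a representative of order 10 -/
def rep10 : Equiv.Perm (Fin 10) := Equiv.swap 0 1 * Equiv.swap 1 2 * Equiv.swap 2 3 * Equiv.swap 3 4 * Equiv.swap 5 6 * Equiv.swap 7 8

theorem rep10_sign : Equiv.Perm.sign rep10 = 1 := by
  simp [rep10, Equiv.Perm.sign_mul, Equiv.Perm.sign_swap']

theorem rep10_order : orderOf rep10 = 10 := by
  rw [orderOf_eq_iff (by norm_num)]
  decide +kernel

/-- a representative of order 12 -/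
def rep12 : Equiv.Perm (Fin 10) := Equiv.swap 0 1 * Equiv.swap 1 2 * Equiv.swap 2 3 * Equiv.swap 4 5 * Equiv.swap 5 6 * Equiv.swap 7 8

theorem rep12_sign : Equiv.Perm.sign rep12 = 1 := by
  simp [rep12, Equiv.Perm.sign_mul, Equiv.Perm.sign_swap']

theorem rep12_order : orderOf rep12 = 12 := by
  rw [orderOf_eq_iff (by norm_num)]
  decide +kernel

/-- a representative of order 15 -/
def rep15 : Equiv.Perm (Fin 10) := Equiv.swap 0 1 * Equiv.swap 1 2 * Equiv.swap 2 3 * Equiv.swap 3 4 * Equiv.swap 5 6 * Equiv.swap 6 7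

theorem rep15_sign : Equiv.Perm.sign rep15 = 1 := by
  simp [rep15, Equiv.Perm.sign_mul, Equiv.Perm.sign_swap']

theorem rep15_order : orderOf rep15 = 15 := by
  rw [orderOf_eq_iff (by norm_num)]
  decide +kernel

/-- a representative of order 21 -/
def rep21 : Equiv.Perm (Fin 10) := Equiv.swap 0 1 * Equiv.swap 1 2 * Equiv.swap 2 3 * Equiv.swap 3 4 * Equiv.swap 4 5 * Equiv.swap 5 6 * Equiv.swap 7 8 * Equiv.swap 8 9

theorem rep21_sign : Equiv.Perm.sign rep21 = 1 := by
  simp [rep21, Equiv.Perm.sign_mul, Equiv.Perm.sign_swap']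

theorem rep21_order : orderOf rep21 = 21 := by
  rw [orderOf_eq_iff (by norm_num)]
  decide +kernel


theorem exists_alt_orderOf {n : ℕ} (hn : n ∈ TA) :
    ∃ σ : alternatingGroup (Fin 10), orderOf σ = n := by
  have key : ∀ (τ : Equiv.Perm (Fin 10)), Equiv.Perm.sign τ = 1 →
      ∃ σ : alternatingGroup (Fin 10), orderOf σ = orderOf τ := by
    intro τ hτ
    exact ⟨⟨τ, Equiv.Perm.mem_alternatingGroup.mpr hτ⟩, Subgroup.orderOf_mk τ _⟩
  simp only [TA, Finset.mem_insert, Finset.mem_singleton] at hn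
  rcases hn with rfl | rfl | rfl | rfl | rfl | rfl | rfl | rfl | rfl | rfl | rfl | rfl | rfl
  · exact ⟨1, orderOf_one⟩
  · simpa [rep2_order] using key rep2 rep2_sign
  · simpa [rep3_order] using key rep3 rep3_sign
  · simpa [rep4_order] using key rep4 rep4_sign
  · simpa [rep5_order] using key rep5 rep5_sign
  · simpa [rep6_order] using key rep6 rep6_sign
  · simpa [rep7_order] using key rep7 rep7_sign
  · simpa [rep8_order] using key rep8 rep8_sign
  · simpa [rep9_order] using key rep9 rep9_sign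
  · simpa [rep10_order] using key rep10 rep10_sign
  · simpa [rep12_order] using key rep12 rep12_sign
  · simpa [rep15_order] using key rep15 rep15_sign
  · simpa [rep21_order] using key rep21 rep21_sign

theorem range_orderOf_alt :
    Set.range (orderOf : alternatingGroup (Fin 10) → ℕ) = (TA : Set ℕ) := by
  ext n
  constructor
  · rintro ⟨σ, rfl⟩
    rw [← Subgroup.orderOf_coe]
    exact orderOf_mem_TA σ.1 (Equiv.Perm.mem_alternatingGroup.mp σ.2)
  · intro hn
    exact exists_alt_orderOf hn

end Cfsg.Agent.Helper39.SpecA10
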