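import Cfsg.Agent.Helper39.SpecA10.KData

/-!
# Kernel-checked certificates for the `2.S₅⁻` data (helper39, for S3489)
-/

namespace Cfsg.Agent.Helper39.SpecA10

theorem cert_len : SL.length = 240 := by decide +kernel

theorem cert_one : SL.getD 0 0 = 1 := by decide +kernel

theorem cert_inv : ma * mai = 1 ∧ mai * ma = 1 ∧ mb * mbi = 1 ∧ mbi * mb = 1 := by
  decide +kernel

theorem cert_a : ∀ i < 240, pa.getD i 0 < 240 ∧ SL.getD i 0 * ma = SL.getD (pa.getD i 0) 0 := by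
  decide +kernel

theorem cert_b : ∀ i < 240, pb.getD i 0 < 240 ∧ SL.getD i 0 * mb = SL.getD (pb.getD i 0) 0 := by
  decide +kernel

theorem cert_ai : ∀ i < 240, pai.getD i 0 < 240 ∧
    SL.getD i 0 * mai = SL.getD (pai.getD i 0) 0 := by
  decide +kernel

theorem cert_bi : ∀ i < 240, pbi.getD i 0 < 240 ∧
    SL.getD i 0 * mbi = SL.getD (pbi.getD i 0) 0 := by
  decide +kernel

theorem cert_sq : ∀ i < 240, sq.getD i 0 < 240 ∧
    SL.getD i 0 * SL.getD i 0 = SL.getD (sq.getD i 0) 0 := by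
  decide +kernel

theorem cert_fpf : ∀ i < 240, i = 0 ∨ RL.getD i 0 * (SL.getD i 0 - 1) = 1 := by
  decide +kernel

theorem cert_ord : ∀ i < 240,
    SL.getD (sq.getD (sq.getD (sq.getD i 0) 0) 0) 0 = 1 ∨
    SL.getD (sq.getD (sq.getD (sq.getD i 0) 0) 0) 0 * SL.getD (sq.getD i 0) 0 = 1 ∨
    SL.getD (sq.getD (sq.getD (sq.getD i 0) 0) 0) 0 * SL.getD (sq.getD (sq.getD i 0) 0) 0 = 1 := by
  decide +kernel

end Cfsg.Agent.Helper39.SpecA10
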