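import Cfsg.Agent.Helper39.SpecA10.KData

/-!
# Element-order certificates in `2.S₅⁻` (helper39, for S3489; generated)
-/

namespace Cfsg.Agent.Helper39.SpecA10

/-- `a²` -/
def mA2 : M4 := ofL [5, 0, 2, 0, 0, 5, 0, 2, 1, 0, 2, 0, 0, 1, 0, 2]

/-- `c = a b` -/
def mC : M4 := ofL [2, 5, 2, 1, 5, 5, 1, 5, 2, 2, 6, 1, 2, 5, 1, 1]
/-- `c²` -/
def mC2 : M4 := ofL [0, 2, 1, 2, 5, 0, 5, 1, 0, 2, 1, 5, 5, 0, 2, 1]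
/-- `c⁴` -/
def mC4 : M4 := ofL [6, 2, 1, 2, 5, 6, 5, 1, 0, 2, 0, 5, 5, 0, 2, 0]

/-- `d = aaababb` -/
def mD : M4 := ofL [0, 5, 0, 1, 2, 0, 6, 0, 6, 1, 4, 0, 6, 6, 0, 4]
/-- `d²` -/
def mD2 : M4 := ofL [2, 6, 2, 4, 1, 2, 3, 2, 5, 6, 1, 6, 1, 5, 1, 1]
/-- `d⁴` -/
def mD4 : M4 := ofL [3, 0, 0, 1, 0, 3, 6, 0, 6, 1, 0, 2, 6, 6, 5, 0]

theorem cert_neg_one_ne : (-1 : M4) ≠ 1 := by decide +kernel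

theorem cert_A : ma * ma = mA2 ∧ mA2 * mA2 = -1 := by decide +kernel

theorem cert_C : ma * mb = mC ∧ mC * mC = mC2 ∧ mC2 * mC2 = mC4 ∧ mC4 * mC2 = -1 ∧ mC4 ≠ 1 := by
  decide +kernel

theorem cert_D : ma * ma * ma * mb * ma * mb * mb = mD ∧ mD * mD = mD2 ∧ mD2 * mD2 = mD4 ∧
    mD4 * mD = -1 ∧ mD2 ≠ 1 := by
  decide +kernel

end Cfsg.Agent.Helper39.SpecA10
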