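import Cfsg.Agent.Helper39.SpecA10.Aff

/-!
# The spectrum of `(A × B) ⋊ K` for a `2.S₅⁻`-like group `K` (helper39, for S3489)
-/

namespace Cfsg.Agent.Helper39.SpecA10

set_option linter.unusedSectionVars false

open Aff

/-- the spectrum of `A₁₀` -/
def T : Finset ℕ := {1, 2, 3, 4, 5, 6, 7, 8, 9, 10, 12, 15, 21}

/-- the spectrum of `2.S₅⁻` -/
def TK : Finset ℕ := {1, 2, 3, 4, 5, 6, 8, 10, 12}

section

variable {K A B : Type*} [Group K] [AddCommGroup A] [AddCommGroup B]
  [DistribMulAction K A] [DistribMulAction K B]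

/-- The hypotheses on the triple `(K, A, B)`. -/
structure Hyp (K A B : Type*) [Group K] [AddCommGroup A] [AddCommGroup B]
    [DistribMulAction K A] [DistribMulAction K B] : Prop where
  A7 : ∀ a : A, 7 • a = 0
  A0 : ∃ a : A, a ≠ 0
  B3 : ∀ b : B, 3 • b = 0
  fpf : ∀ g : K, g ≠ 1 → ∀ a : A, g • a = a → a = 0
  inv2 : ∀ t : K, orderOf t = 2 → ∀ b : B, t • b = -b
  ord : ∀ g : K, orderOf g ∈ TK
  e8 : ∃ g : K, orderOf g = 8
  e10 : ∃ g : K, orderOf g = 10
  e12 : ∃ g : K, orderOf g = 12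
  n3 : ∃ t : K, orderOf t = 3 ∧ ∃ b : B, nrm t b ≠ 0
  n5 : ∃ t : K, orderOf t = 5 ∧ ∃ b : B, nrm t b ≠ 0

theorem nrm_prod (g : K) (a : A) (b : B) : nrm g ((a, b) : A × B) = (nrm g a, nrm g b) := by
  unfold nrm
  apply Prod.ext
  · simp [Prod.fst_sum]
  · simp [Prod.snd_sum]

theorem nrm_one {V : Type*} [AddCommGroup V] [DistribMulAction K V] (v : V) :
    nrm (1 : K) v = v := by
  simp [nrm]

theorem smul_nrm {V : Type*} [AddCommGroup V] [DistribMulAction K V] (g : K) (v : V) :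
    g • nrm g v = nrm g v := by
  unfold nrm
  rw [Finset.smul_sum]
  have h1 : ∀ i, g • (g ^ i • v) = g ^ (i + 1) • v := by
    intro i; rw [← mul_smul, ← pow_succ']
  simp only [h1]
  have h2 := Finset.sum_range_succ (fun i => g ^ i • v) (orderOf g)
  have h3 := Finset.sum_range_succ' (fun i => g ^ i • v) (orderOf g)
  simp only [pow_orderOf_eq_one, pow_zero, one_smul] at h2 h3
  rw [h2] at h3
  exact (add_right_cancel h3).symm

theorem nrm_eq_zero_of_fpf (h : Hyp K A B) (g : K) (hg : g ≠ 1) (a : A) : nrm g a = 0 :=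
  h.fpf g hg _ (smul_nrm g a)

theorem nrm_even (h : Hyp K A B) (g : K) (k : ℕ) (hk : 0 < k) (hg : orderOf g = 2 * k) (b : B) :
    nrm g b = 0 := by
  have ho : orderOf (g ^ k) = 2 := by
    rw [orderOf_pow_of_dvd hk.ne' (by rw [hg]; exact Dvd.intro_left 2 rfl), hg]
    exact Nat.mul_div_cancel _ hk
  have hneg : ∀ b' : B, (g ^ k) • b' = -b' := h.inv2 _ ho
  unfold nrm
  rw [hg, two_mul, Finset.sum_range_add]
  have : ∀ i, g ^ (k + i) • b = -(g ^ i • b) := by
    intro i; rw [pow_add, mul_smul, hneg]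
  simp only [this, Finset.sum_neg_distrib, add_neg_cancel]

theorem addOrderOf_dvd_21 (h : Hyp K A B) (v : A × B) : addOrderOf v ∣ 21 := by
  apply addOrderOf_dvd_of_nsmul_eq_zero
  apply Prod.ext
  · have : (21 : ℕ) • v.1 = 3 • (7 • v.1) := by rw [← mul_nsmul]
    simp [this, h.A7]
  · have : (21 : ℕ) • v.2 = 7 • (3 • v.2) := by rw [← mul_nsmul]
    simp [this, h.B3]

theorem orderOf_mem_T (h : Hyp K A B) (x : Aff K (A × B)) : orderOf x ∈ T := by
  have hm := h.ord x.g
  have hpos : 0 < orderOf x.g := by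
    have : orderOf x.g ≠ 0 := by
      intro h0; rw [h0] at hm; revert hm; decide
    omega
  have key := Aff.orderOf_eq x hpos
  obtain ⟨⟨a, b⟩, g⟩ := x
  simp only at hm key hpos ⊢
  rw [nrm_prod] at key
  by_cases hg1 : g = 1
  · subst hg1
    rw [orderOf_one, one_mul, nrm_one, nrm_one] at key
    rw [key]
    have h21 := addOrderOf_dvd_21 h ((a, b) : A × B)
    have hmem : addOrderOf ((a, b) : A × B) ∈ Nat.divisors 21 :=
      Nat.mem_divisors.mpr ⟨h21, by norm_num⟩
    have hsub : Nat.divisors 21 ⊆ T := by decide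
    exact hsub hmem
  · rw [nrm_eq_zero_of_fpf h g hg1 a] at key
    have h3 : addOrderOf ((0, nrm g b) : A × B) ∣ 3 := by
      apply addOrderOf_dvd_of_nsmul_eq_zero
      apply Prod.ext
      · simp
      · simp [h.B3]
    have h3' : addOrderOf ((0, nrm g b) : A × B) = 1 ∨ addOrderOf ((0, nrm g b) : A × B) = 3 :=
      (Nat.dvd_prime Nat.prime_three).mp h3
    have heven : ∀ k, 0 < k → orderOf g = 2 * k → orderOf (⟨(a, b), g⟩ : Aff K (A × B)) = 2 * k := by
      intro k hk hgk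
      rw [nrm_even h g k hk hgk b] at key
      have : ((0, 0) : A × B) = 0 := rfl
      rw [this, addOrderOf_zero, mul_one] at key
      rw [key, hgk]
    have hg1' : orderOf g ≠ 1 := fun h1 => hg1 (orderOf_eq_one_iff.mp h1)
    simp only [TK, Finset.mem_insert, Finset.mem_singleton] at hm
    rcases hm with hm | hm | hm | hm | hm | hm | hm | hm | hm
    · exact absurd hm hg1'
    · rw [heven 1 (by norm_num) (by rw [hm])]; decide
    · rcases h3' with h3' | h3' <;> rw [key, hm, h3'] <;> decide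
    · rw [heven 2 (by norm_num) (by rw [hm])]; decide
    · rcases h3' with h3' | h3' <;> rw [key, hm, h3'] <;> decide
    · rw [heven 3 (by norm_num) (by rw [hm])]; decide
    · rw [heven 4 (by norm_num) (by rw [hm])]; decide
    · rw [heven 5 (by norm_num) (by rw [hm])]; decide
    · rw [heven 6 (by norm_num) (by rw [hm])]; decide

/-- elements of `K` embed with the same order -/
theorem orderOf_mk_zero (g : K) (hpos : 0 < orderOf g) :
    orderOf (⟨0, g⟩ : Aff K (A × B)) = orderOf g := by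
  have key := Aff.orderOf_eq (⟨0, g⟩ : Aff K (A × B)) hpos
  simp only at key
  have : nrm g (0 : A × B) = 0 := by simp [nrm]
  rw [this, addOrderOf_zero, mul_one] at key
  exact key

theorem exists_orderOf (h : Hyp K A B) {n : ℕ} (hn : n ∈ T) :
    ∃ x : Aff K (A × B), orderOf x = n := by
  obtain ⟨a0, ha0⟩ := h.A0
  obtain ⟨g8, hg8⟩ := h.e8
  obtain ⟨g10, hg10⟩ := h.e10
  obtain ⟨g12, hg12⟩ := h.e12
  obtain ⟨t3, ht3, b3, hb3⟩ := h.n3
  obtain ⟨t5, ht5, b5, hb5⟩ := h.n5
  have hb3' : b3 ≠ 0 := by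
    rintro rfl; apply hb3; simp [nrm]
  have : Fact (Nat.Prime 7) := ⟨by norm_num⟩
  have : Fact (Nat.Prime 3) := ⟨by norm_num⟩
  have oa : addOrderOf a0 = 7 :=
    addOrderOf_eq_prime (p := 7) (h.A7 a0) ha0
  have ob : addOrderOf b3 = 3 :=
    addOrderOf_eq_prime (p := 3) (h.B3 b3) hb3'
  -- elements of K of every order in TK
  have hK : ∀ m ∈ TK, ∃ g : K, orderOf g = m := by
    intro m hm
    simp only [TK, Finset.mem_insert, Finset.mem_singleton] at hm
    rcases hm with rfl | rfl | rfl | rfl | rfl | rfl | rfl | rfl | rfl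
    · exact ⟨1, orderOf_one⟩
    · exact ⟨g8 ^ 4, by rw [orderOf_pow_of_dvd (by norm_num) (by rw [hg8]; norm_num), hg8]⟩
    · exact ⟨t3, ht3⟩
    · exact ⟨g8 ^ 2, by rw [orderOf_pow_of_dvd (by norm_num) (by rw [hg8]; norm_num), hg8]⟩
    · exact ⟨t5, ht5⟩
    · exact ⟨g12 ^ 2, by rw [orderOf_pow_of_dvd (by norm_num) (by rw [hg12]; norm_num), hg12]⟩
    · exact ⟨g8, hg8⟩
    · exact ⟨g10, hg10⟩
    · exact ⟨g12, hg12⟩
  have hK' : ∀ m ∈ TK, ∃ x : Aff K (A × B), orderOf x = m := by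
    intro m hm
    obtain ⟨g, hg⟩ := hK m hm
    have hpos : 0 < orderOf g := by
      rw [hg]
      rcases Nat.eq_zero_or_pos m with rfl | h0
      · revert hm; decide
      · exact h0
    exact ⟨⟨0, g⟩, by rw [orderOf_mk_zero g hpos, hg]⟩
  have hV : ∀ v : A × B, ∃ x : Aff K (A × B), orderOf x = addOrderOf v :=
    fun v => ⟨⟨v, 1⟩, Aff.orderOf_mk_one v⟩
  have h9 : ∀ (t : K) (b : B) (p : ℕ), orderOf t = p → 0 < p → nrm t b ≠ 0 →
      ∃ x : Aff K (A × B), orderOf x = p * 3 := by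
    intro t b p htp hp hb
    refine ⟨⟨(0, b), t⟩, ?_⟩
    have key := Aff.orderOf_eq (⟨(0, b), t⟩ : Aff K (A × B)) (by simpa [htp] using hp)
    simp only at key
    rw [nrm_prod] at key
    have hz : nrm t (0 : A) = 0 := by simp [nrm]
    rw [hz] at key
    have h3 : addOrderOf ((0, nrm t b) : A × B) = 3 := by
      apply addOrderOf_eq_prime (p := 3)
      · apply Prod.ext
        · simp
        · simp [h.B3]
      · intro h0
        exact hb (congrArg Prod.snd h0)
    rw [key, h3, htp]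
  simp only [T, Finset.mem_insert, Finset.mem_singleton] at hn
  rcases hn with rfl | rfl | rfl | rfl | rfl | rfl | rfl | rfl | rfl | rfl | rfl | rfl | rfl
  · exact hK' 1 (by decide)
  · exact hK' 2 (by decide)
  · exact hK' 3 (by decide)
  · exact hK' 4 (by decide)
  · exact hK' 5 (by decide)
  · exact hK' 6 (by decide)
  · obtain ⟨x, hx⟩ := hV (a0, 0)
    refine ⟨x, ?_⟩
    rw [hx, Prod.addOrderOf_mk, oa, addOrderOf_zero]
    rfl
  · exact hK' 8 (by decide)
  · exact h9 t3 b3 3 ht3 (by norm_num) hb3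
  · exact hK' 10 (by decide)
  · exact hK' 12 (by decide)
  · exact h9 t5 b5 5 ht5 (by norm_num) hb5
  · obtain ⟨x, hx⟩ := hV (a0, b3)
    refine ⟨x, ?_⟩
    rw [hx, Prod.addOrderOf_mk, oa, ob]
    rfl

theorem range_orderOf (h : Hyp K A B) :
    Set.range (orderOf : Aff K (A × B) → ℕ) = (T : Set ℕ) := by
  ext n
  constructor
  · rintro ⟨x, rfl⟩
    exact orderOf_mem_T h x
  · intro hn
    exact exists_orderOf h hn

end

end Cfsg.Agent.Helper39.SpecA10
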