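import Cfsg.Agent.Helper39.SpecA10.KCert
import Cfsg.Agent.Helper39.SpecA10.Spec

/-!
# The group `K = 2.S₅⁻ ≤ GL₄(𝔽₇)` and its modules (helper39, for S3489)
-/

namespace Cfsg.Agent.Helper39.SpecA10

set_option linter.unusedSectionVars false

/-- generator `a` as a unit -/
def ua : M4ˣ := ⟨ma, mai, cert_inv.1, cert_inv.2.1⟩
/-- generator `b` as a unit -/
def ub : M4ˣ := ⟨mb, mbi, cert_inv.2.2.1, cert_inv.2.2.2⟩

/-- the group `K` -/
def KG : Subgroup M4ˣ := Subgroup.closure {ua, ub}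

theorem mem_SL_iff (s : M4) : s ∈ SL ↔ ∃ i < 240, s = SL.getD i 0 := by
  rw [List.mem_iff_getElem]
  constructor
  · rintro ⟨i, hi, rfl⟩
    refine ⟨i, by rwa [cert_len] at hi, ?_⟩
    rw [List.getD_eq_getElem _ _ hi]
  · rintro ⟨i, hi, rfl⟩
    have hi' : i < SL.length := by rwa [cert_len]
    exact ⟨i, hi', by rw [List.getD_eq_getElem _ _ hi']⟩

theorem closed_of_cert (m : M4) (p : List ℕ)
    (h : ∀ i < 240, p.getD i 0 < 240 ∧ SL.getD i 0 * m = SL.getD (p.getD i 0) 0) :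
    ∀ s ∈ SL, s * m ∈ SL := by
  intro s hs
  rw [mem_SL_iff] at hs ⊢
  obtain ⟨i, hi, rfl⟩ := hs
  exact ⟨p.getD i 0, (h i hi).1, (h i hi).2⟩

theorem one_mem_SL : (1 : M4) ∈ SL := by
  rw [mem_SL_iff]
  exact ⟨0, by norm_num, cert_one.symm⟩

theorem val_mem_SL {g : M4ˣ} (hg : g ∈ KG) : (g : M4) ∈ SL := by
  have key : ∀ s ∈ SL, s * (g : M4) ∈ SL ∧ s * ((g⁻¹ : M4ˣ) : M4) ∈ SL := by
    unfold KG at hg
    induction hg using Subgroup.closure_induction with
    | mem x hx =>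
      intro s hs
      rcases hx with rfl | hx
      · exact ⟨closed_of_cert ma pa cert_a s hs, closed_of_cert mai pai cert_ai s hs⟩
      · rw [Set.mem_singleton_iff] at hx
        subst hx
        exact ⟨closed_of_cert mb pb cert_b s hs, closed_of_cert mbi pbi cert_bi s hs⟩
    | one =>
      intro s hs
      simpa using hs
    | mul x y _ _ hx hy =>
      intro s hs
      constructor
      · rw [Units.val_mul, ← mul_assoc]
        exact (hy _ (hx s hs).1).1
      · rw [mul_inv_rev, Units.val_mul, ← mul_assoc]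
        exact (hx _ (hy s hs).2).2
    | inv x _ hx =>
      intro s hs
      rw [inv_inv]
      exact ⟨(hx s hs).2, (hx s hs).1⟩
  simpa using (key 1 one_mem_SL).1

theorem exists_inv_sub_one {g : M4ˣ} (hg : g ∈ KG) (hg1 : g ≠ 1) :
    ∃ r : M4, r * ((g : M4) - 1) = 1 := by
  have h := val_mem_SL hg
  rw [mem_SL_iff] at h
  obtain ⟨i, hi, hgi⟩ := h
  rcases cert_fpf i hi with rfl | h
  · exfalso
    apply hg1
    apply Units.ext
    rw [hgi, cert_one]
    rfl
  · exact ⟨RL.getD i 0, by rw [hgi]; exact h⟩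

theorem pow_cases {g : M4ˣ} (hg : g ∈ KG) : g ^ 8 = 1 ∨ g ^ 10 = 1 ∨ g ^ 12 = 1 := by
  have h := val_mem_SL hg
  rw [mem_SL_iff] at h
  obtain ⟨i, hi, hgi⟩ := h
  obtain ⟨h2lt, h2⟩ := cert_sq i hi
  obtain ⟨h4lt, h4⟩ := cert_sq _ h2lt
  obtain ⟨_, h8⟩ := cert_sq _ h4lt
  rw [← hgi] at h2
  have e2 : (g : M4) ^ 2 = SL.getD (sq.getD i 0) 0 := by rw [pow_two, h2]
  have e4 : (g : M4) ^ 4 = SL.getD (sq.getD (sq.getD i 0) 0) 0 := by
    rw [← h4, ← e2, ← pow_add]
  have e8 : (g : M4) ^ 8 = SL.getD (sq.getD (sq.getD (sq.getD i 0) 0) 0) 0 := by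
    rw [← h8, ← e4, ← pow_add]
  rcases cert_ord i hi with h | h | h
  · left
    apply Units.ext
    rw [Units.val_pow_eq_pow_val, e8, h]; rfl
  · right; left
    apply Units.ext
    rw [Units.val_pow_eq_pow_val, show (10 : ℕ) = 8 + 2 from rfl, pow_add, e8, e2, h]; rfl
  · right; right
    apply Units.ext
    rw [Units.val_pow_eq_pow_val, show (12 : ℕ) = 8 + 4 from rfl, pow_add, e8, e4, h]; rfl

theorem orderOf_mem_TK (g : KG) : orderOf g ∈ TK := by
  have h := pow_cases g.2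
  have hd : orderOf g ∣ 8 ∨ orderOf g ∣ 10 ∨ orderOf g ∣ 12 := by
    rcases h with h | h | h
    · left; apply orderOf_dvd_of_pow_eq_one; apply Subtype.ext; simpa using h
    · right; left; apply orderOf_dvd_of_pow_eq_one; apply Subtype.ext; simpa using h
    · right; right; apply orderOf_dvd_of_pow_eq_one; apply Subtype.ext; simpa using h
  rcases hd with h | h | h
  · have : orderOf g ∈ Nat.divisors 8 := Nat.mem_divisors.mpr ⟨h, by norm_num⟩
    have hs : Nat.divisors 8 ⊆ TK := by decide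
    exact hs this
  · have : orderOf g ∈ Nat.divisors 10 := Nat.mem_divisors.mpr ⟨h, by norm_num⟩
    have hs : Nat.divisors 10 ⊆ TK := by decide
    exact hs this
  · have : orderOf g ∈ Nat.divisors 12 := Nat.mem_divisors.mpr ⟨h, by norm_num⟩
    have hs : Nat.divisors 12 ⊆ TK := by decide
    exact hs this

end Cfsg.Agent.Helper39.SpecA10
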