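import Cfsg.Agent.Helper39.SpecA10.KGroup

/-!
# The modules of `K` and the hypotheses `Hyp` (helper39, for S3489)
-/

namespace Cfsg.Agent.Helper39.SpecA10

set_option linter.unusedSectionVars false

open Aff

section OddFun

variable {K : Type*} [Group K]

/-- functions `f : K → 𝔽₃` with `f (z x) = - f x` -/
def OddFun (K : Type*) [Group K] (z : K) : AddSubgroup (K → ZMod 3) where
  carrier := {f | ∀ x, f (z * x) = - f x}
  zero_mem' := by intro x; simp
  add_mem' := by
    intro f g hf hg x
    simp only [Pi.add_apply, hf x, hg x]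
    abel
  neg_mem' := by
    intro f hf x
    simp only [Pi.neg_apply, hf x]

variable {z : K}

instance : SMul K (OddFun K z) :=
  ⟨fun g f => ⟨fun x => f.1 (x * g), fun x => by
    have := f.2 (x * g)
    rw [← mul_assoc] at this
    exact this⟩⟩

theorem OddFun.smul_apply (g : K) (f : OddFun K z) (x : K) : (g • f).1 x = f.1 (x * g) := rfl

instance : DistribMulAction K (OddFun K z) where
  one_smul f := by
    apply Subtype.ext; funext x
    rw [OddFun.smul_apply, mul_one]
  mul_smul g h f := by
    apply Subtype.ext; funext x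
    rw [OddFun.smul_apply, OddFun.smul_apply, OddFun.smul_apply, mul_assoc]
  smul_zero g := by
    apply Subtype.ext; funext x
    rfl
  smul_add g f1 f2 := by
    apply Subtype.ext; funext x
    rfl

theorem OddFun.three_nsmul (f : OddFun K z) : 3 • f = 0 := by
  apply Subtype.ext; funext x
  have h3 : (3 : ZMod 3) = 0 := by decide
  simp only [AddSubgroup.coe_nsmul, Pi.smul_apply, nsmul_eq_mul, AddSubgroup.coe_zero,
    Pi.zero_apply, Nat.cast_ofNat]
  rw [h3, zero_mul]

theorem OddFun.central_smul (hz : ∀ x : K, x * z = z * x) (f : OddFun K z) : z • f = -f := by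
  apply Subtype.ext; funext x
  rw [OddFun.smul_apply, hz x]
  exact f.2 x

open Classical in
/-- the basic odd function `δ₁ - δ_z` -/
noncomputable def OddFun.delta (hz1 : z ≠ 1) (hz2 : z * z = 1) : OddFun K z :=
  ⟨fun x => if x = 1 then 1 else if x = z then -1 else 0, by
    intro x
    by_cases h1 : x = 1
    · subst h1
      simp [hz1]
    · by_cases h2 : x = z
      · subst h2
        simp [hz2, hz1]
      · have h3 : z * x ≠ 1 := by
          intro h
          apply h2
          have : z * x = z * z := by rw [h, hz2]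
          exact mul_left_cancel this
        have h4 : z * x ≠ z := by
          intro h
          apply h1
          exact mul_left_cancel (by rw [h, mul_one])
        simp [h1, h2, h3, h4]⟩

theorem OddFun.nrm_delta_ne (hz1 : z ≠ 1) (hz2 : z * z = 1) (t : K) (ht : Odd (orderOf t)) :
    nrm t (OddFun.delta hz1 hz2) ≠ 0 := by
  classical
  intro h
  have h1 : (nrm t (OddFun.delta hz1 hz2)).1 1 = 0 := by rw [h]; rfl
  unfold nrm at h1
  rw [AddSubgroup.val_finsetSum, Finset.sum_apply] at h1
  have hpos : 0 < orderOf t := ht.pos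
  rw [Finset.sum_eq_single_of_mem 0 (Finset.mem_range.mpr hpos)] at h1
  · simp [OddFun.delta] at h1
  · intro i hi hi0
    rw [Finset.mem_range] at hi
    rw [OddFun.smul_apply, one_mul]
    have e1 : t ^ i ≠ 1 := by
      intro he
      have := orderOf_dvd_of_pow_eq_one he
      have := Nat.le_of_dvd (Nat.pos_of_ne_zero hi0) this
      omega
    have e2 : t ^ i ≠ z := by
      intro he
      have he2 : t ^ (2 * i) = 1 := by
        rw [two_mul, pow_add, he, hz2]
      have hd := orderOf_dvd_of_pow_eq_one he2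
      have hc : Nat.Coprime (orderOf t) 2 := Nat.coprime_two_right.mpr ht
      have hd' : orderOf t ∣ i := hc.dvd_of_dvd_mul_left hd
      have := Nat.le_of_dvd (Nat.pos_of_ne_zero hi0) hd'
      omega
    simp [OddFun.delta, e1, e2]

end OddFun

/-- the module `A^k`, `A = 𝔽₇⁴` -/
abbrev AV (k : ℕ) := Fin k → (Fin 4 → ZMod 7)

theorem AV.smul_apply {k : ℕ} (g : KG) (f : AV k) (j : Fin k) :
    (g • f) j = ((g : M4ˣ) : M4).mulVec (f j) := rfl

theorem AV.fpf {k : ℕ} (g : KG) (hg : g ≠ 1) (f : AV k) (h : g • f = f) : f = 0 := by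
  have hg1 : (g : M4ˣ) ≠ 1 := by
    intro h1; apply hg; exact Subtype.ext h1
  obtain ⟨r, hr⟩ := exists_inv_sub_one g.2 hg1
  funext j
  have hj : ((g : M4ˣ) : M4).mulVec (f j) = f j := by
    rw [← AV.smul_apply, h]
  have h0 : (((g : M4ˣ) : M4) - 1).mulVec (f j) = 0 := by
    rw [Matrix.sub_mulVec, hj, Matrix.one_mulVec, sub_self]
  have : (r * (((g : M4ˣ) : M4) - 1)).mulVec (f j) = 0 := by
    rw [← Matrix.mulVec_mulVec, h0, Matrix.mulVec_zero]
  rw [hr, Matrix.one_mulVec] at this
  rw [this]; rfl

theorem AV.seven_nsmul {k : ℕ} (f : AV k) : 7 • f = 0 := by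
  funext j i
  have h7 : (7 : ZMod 7) = 0 := by decide
  simp only [Pi.smul_apply, nsmul_eq_mul, Pi.zero_apply, Nat.cast_ofNat]
  rw [h7, zero_mul]

/-- the central involution `-1` of `K` -/
def zK : KG := ⟨ua ^ 4, Subgroup.pow_mem _ (Subgroup.subset_closure (by simp)) 4⟩

end Cfsg.Agent.Helper39.SpecA10
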