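import Cfsg.Agent.Helper39.SpecA10.KMod
import Cfsg.Agent.Helper39.SpecA10.KCert2
import Cfsg.Agent.Helper39.SpecA10.Alt

/-!
# Arbitrarily large groups isospectral to `A₁₀` (helper39, for S3489)
-/

namespace Cfsg.Agent.Helper39.SpecA10

open Aff

theorem pow_four_eq {M : Type*} [Monoid M] (x : M) : x ^ 4 = (x * x) * (x * x) := by
  simp only [pow_succ, pow_zero, one_mul, mul_assoc]

theorem pow_five_eq {M : Type*} [Monoid M] (x : M) : x ^ 5 = (x * x) * (x * x) * x := by
  simp only [pow_succ, pow_zero, one_mul, mul_assoc]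

theorem pow_six_eq {M : Type*} [Monoid M] (x : M) : x ^ 6 = (x * x) * (x * x) * (x * x) := by
  simp only [pow_succ, pow_zero, one_mul, mul_assoc]

theorem prime_dvd_twelve {p : ℕ} (hp : p.Prime) (hd : p ∣ 12) : p = 2 ∨ p = 3 := by
  have hle : p ≤ 12 := Nat.le_of_dvd (by norm_num) hd
  interval_cases p <;>
    first
    | (left; rfl)
    | (right; rfl)
    | (exfalso; revert hp; decide)
    | (exfalso; revert hd; decide)

theorem prime_dvd_ten {p : ℕ} (hp : p.Prime) (hd : p ∣ 10) : p = 2 ∨ p = 5 := by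
  have hle : p ≤ 10 := Nat.le_of_dvd (by norm_num) hd
  interval_cases p <;>
    first
    | (left; rfl)
    | (right; rfl)
    | (exfalso; revert hp; decide)
    | (exfalso; revert hd; decide)

theorem ua_mem : ua ∈ KG := Subgroup.subset_closure (by simp)
theorem ub_mem : ub ∈ KG := Subgroup.subset_closure (by simp)

theorem zK_val : ((zK : M4ˣ) : M4) = -1 := by
  show ((ua ^ 4 : M4ˣ) : M4) = -1
  rw [Units.val_pow_eq_pow_val]
  show ma ^ 4 = -1
  rw [pow_four_eq, cert_A.1, cert_A.2]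

theorem zK_central (x : KG) : x * zK = zK * x := by
  apply Subtype.ext; apply Units.ext
  simp [zK_val]

theorem zK_ne_one : zK ≠ 1 := by
  intro h
  have : ((zK : M4ˣ) : M4) = 1 := by rw [h]; rfl
  rw [zK_val] at this
  exact cert_neg_one_ne this

theorem zK_sq : zK * zK = 1 := by
  apply Subtype.ext; apply Units.ext
  simp [zK_val]

theorem eq_zK_of_orderOf_two (t : KG) (ht : orderOf t = 2) : t = zK := by
  have ht1 : t ≠ 1 := by
    intro h; rw [h, orderOf_one] at ht; norm_num at ht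
  have ht2 : t ^ 2 = 1 := by rw [← ht]; exact pow_orderOf_eq_one t
  have hg1 : (t : M4ˣ) ≠ 1 := fun h => ht1 (Subtype.ext h)
  obtain ⟨r, hr⟩ := exists_inv_sub_one t.2 hg1
  have hv2 : ((t : M4ˣ) : M4) * ((t : M4ˣ) : M4) = 1 := by
    have := congrArg (fun u : KG => ((u : M4ˣ) : M4)) ht2
    simpa [pow_two] using this
  have h0 : (((t : M4ˣ) : M4) - 1) * (((t : M4ˣ) : M4) + 1) = 0 := by
    rw [sub_mul, mul_add, one_mul, mul_one, hv2]; abel
  have h1 : r * ((((t : M4ˣ) : M4) - 1) * (((t : M4ˣ) : M4) + 1)) = 0 := by rw [h0, mul_zero]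
  rw [← mul_assoc, hr, one_mul] at h1
  apply Subtype.ext; apply Units.ext
  rw [zK_val]; exact eq_neg_of_add_eq_zero_left h1

/-- an element of order 8 -/
def g8 : KG := ⟨ua, ua_mem⟩
/-- an element of order 12 -/
def g12 : KG := ⟨ua * ub, mul_mem ua_mem ub_mem⟩
/-- an element of order 10 -/
def g10 : KG := ⟨ua * ua * ua * ub * ua * ub * ub,
  mul_mem (mul_mem (mul_mem (mul_mem (mul_mem (mul_mem ua_mem ua_mem) ua_mem) ub_mem) ua_mem)
    ub_mem) ub_mem⟩

theorem KG_ext {x y : KG} (h : ((x : M4ˣ) : M4) = ((y : M4ˣ) : M4)) : x = y :=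
  Subtype.ext (Units.ext h)

theorem g8_pow : g8 ^ 4 = zK := rfl

theorem orderOf_g8 : orderOf g8 = 8 := by
  have h := orderOf_eq_prime_pow (x := g8) (p := 2) (n := 2)
    (by rw [show (2 : ℕ) ^ 2 = 4 from rfl, g8_pow]; exact zK_ne_one)
    (by rw [show (2 : ℕ) ^ (2 + 1) = 4 + 4 from rfl, pow_add, g8_pow]; exact zK_sq)
  simpa using h

theorem g12_pow : g12 ^ 6 = zK := by
  apply KG_ext
  rw [zK_val]
  show (ma * mb) ^ 6 = -1
  rw [cert_C.1, pow_six_eq, cert_C.2.1, cert_C.2.2.1, cert_C.2.2.2.1]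

theorem g12_pow4 : g12 ^ 4 ≠ 1 := by
  intro h
  have h1 : (ma * mb) ^ 4 = 1 := congrArg (fun u : KG => ((u : M4ˣ) : M4)) h
  rw [cert_C.1, pow_four_eq, cert_C.2.1, cert_C.2.2.1] at h1
  exact cert_C.2.2.2.2 h1

theorem orderOf_g12 : orderOf g12 = 12 := by
  apply orderOf_eq_of_pow_and_pow_div_prime (by norm_num)
  · rw [show (12 : ℕ) = 6 + 6 from rfl, pow_add, g12_pow]; exact zK_sq
  · intro p hp hd
    have hp' : p = 2 ∨ p = 3 := prime_dvd_twelve hp hd
    rcases hp' with rfl | rfl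
    · rw [show (12 : ℕ) / 2 = 6 from rfl, g12_pow]; exact zK_ne_one
    · rw [show (12 : ℕ) / 3 = 4 from rfl]; exact g12_pow4

theorem g10_pow : g10 ^ 5 = zK := by
  apply KG_ext
  rw [zK_val]
  show (ma * ma * ma * mb * ma * mb * mb) ^ 5 = -1
  rw [cert_D.1, pow_five_eq, cert_D.2.1, cert_D.2.2.1, cert_D.2.2.2.1]

theorem g10_pow2 : g10 ^ 2 ≠ 1 := by
  intro h
  have h1 : (ma * ma * ma * mb * ma * mb * mb) ^ 2 = 1 :=
    congrArg (fun u : KG => ((u : M4ˣ) : M4)) h
  rw [cert_D.1, pow_two, cert_D.2.1] at h1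
  exact cert_D.2.2.2.2 h1

theorem orderOf_g10 : orderOf g10 = 10 := by
  apply orderOf_eq_of_pow_and_pow_div_prime (by norm_num)
  · rw [show (10 : ℕ) = 5 + 5 from rfl, pow_add, g10_pow]; exact zK_sq
  · intro p hp hd
    have hp' : p = 2 ∨ p = 5 := prime_dvd_ten hp hd
    rcases hp' with rfl | rfl
    · rw [show (10 : ℕ) / 2 = 5 from rfl, g10_pow]; exact zK_ne_one
    · rw [show (10 : ℕ) / 5 = 2 from rfl]; exact g10_pow2

/-- the module `B` of odd functions on `K` -/
abbrev BV := OddFun KG zK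

theorem hyp (k : ℕ) : Hyp KG (AV (k + 1)) BV where
  A7 := AV.seven_nsmul
  A0 := by
    refine ⟨fun _ _ => 1, ?_⟩
    intro h
    have h1 : (1 : ZMod 7) = 0 := congrFun (congrFun h 0) 0
    revert h1
    decide
  B3 := OddFun.three_nsmul
  fpf := AV.fpf
  inv2 := by
    intro t ht b
    rw [eq_zK_of_orderOf_two t ht]
    exact OddFun.central_smul zK_central b
  ord := orderOf_mem_TK
  e8 := ⟨g8, orderOf_g8⟩
  e10 := ⟨g10, orderOf_g10⟩
  e12 := ⟨g12, orderOf_g12⟩
  n3 := by
    have h3 : orderOf (g12 ^ 4) = 3 := by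
      rw [orderOf_pow_of_dvd (by norm_num) (by rw [orderOf_g12]; norm_num), orderOf_g12]
    refine ⟨g12 ^ 4, h3, OddFun.delta zK_ne_one zK_sq, ?_⟩
    apply OddFun.nrm_delta_ne
    rw [h3]; decide
  n5 := by
    have h5 : orderOf (g10 ^ 2) = 5 := by
      rw [orderOf_pow_of_dvd (by norm_num) (by rw [orderOf_g10]; norm_num), orderOf_g10]
    refine ⟨g10 ^ 2, h5, OddFun.delta zK_ne_one zK_sq, ?_⟩
    apply OddFun.nrm_delta_ne
    rw [h5]; decide

instance : Finite KG := inferInstance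

instance (k : ℕ) : Finite (Aff KG (AV k × BV)) :=
  Finite.of_injective (fun x => (x.v, x.g)) (by
    intro x y h
    cases x; cases y
    simp only [Prod.mk.injEq] at h
    obtain ⟨h1, h2⟩ := h
    subst h1; subst h2; rfl)

theorem main (N : ℕ) : ∃ (H : Type) (_ : Group H) (_ : Fintype H), N < Fintype.card H ∧
    Set.range (orderOf : H → ℕ) = Set.range (orderOf : alternatingGroup (Fin 10) → ℕ) := by
  classical
  refine ⟨Aff KG (AV (N + 1) × BV), inferInstance, Fintype.ofFinite _, ?_, ?_⟩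
  · have hinj : Function.Injective
        (fun i : Fin (N + 1) => (⟨(Pi.single i (fun _ => 1), 0), 1⟩ : Aff KG (AV (N + 1) × BV))) := by
      intro i j h
      have h1 : (Pi.single i (fun _ => 1) : AV (N + 1)) = Pi.single j (fun _ => 1) := by
        have := congrArg (fun x : Aff KG (AV (N + 1) × BV) => x.v.1) h
        exact this
      by_contra hij
      have h2 := congrFun (congrFun h1 i) 0
      rw [Pi.single_eq_same, Pi.single_eq_of_ne hij] at h2
      revert h2
      decide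
    have := @Fintype.card_le_of_injective _ _ _ (Fintype.ofFinite _) _ hinj
    rw [Fintype.card_fin] at this
    omega
  · rw [range_orderOf (hyp N), range_orderOf_alt]
    rfl

end Cfsg.Agent.Helper39.SpecA10
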